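import Mathlib

/-!
# Groups whose non-abelian subgroups are self-normalizing
-/

namespace Cfsg.Agent.SelfNormNonAb

open Subgroup
open scoped Pointwise

variable {G : Type*} [Group G] [Finite G]

/-- A finite solvable nontrivial group has a normal subgroup of prime index. -/
theorem exists_normal_prime_index [Group.IsSolvable G] [Nontrivial G] :
    ∃ M : Subgroup G, M.Normal ∧ M.index.Prime := by
  have hlt : commutator G < ⊤ := Group.IsSolvable.commutator_lt_top_of_nontrivial G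
  obtain ⟨M, hM, hle⟩ := (eq_top_or_exists_le_coatom (commutator G)).resolve_left hlt.ne
  have hn : M.Normal := Subgroup.Normal.of_commutator_le G hle
  refine ⟨M, hn, ?_⟩
  have hne : M.index ≠ 1 := fun h => hM.1 (Subgroup.index_eq_one.1 h)
  obtain ⟨p, hp, hpd⟩ := Nat.exists_prime_and_dvd hne
  have := Fact.mk hp
  obtain ⟨q, hq⟩ := exists_prime_orderOf_dvd_card' (G := G ⧸ M) p hpd
  obtain ⟨g, rfl⟩ := QuotientGroup.mk'_surjective M q
  have htop : M ⊔ Subgroup.zpowers g = ⊤ := by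
    refine hM.2 _ (lt_of_le_of_ne le_sup_left fun h => ?_)
    have : g ∈ M := h ▸ Subgroup.mem_sup_right (Subgroup.mem_zpowers g)
    rw [(QuotientGroup.eq_one_iff g).2 this |> fun e => show QuotientGroup.mk' M g = 1 from e,
      orderOf_one] at hq
    exact hp.ne_one hq.symm
  have : (Subgroup.zpowers (QuotientGroup.mk' M g)) = ⊤ := by
    rw [← MonoidHom.map_zpowers, ← Subgroup.map_top_of_surjective _ (QuotientGroup.mk'_surjective M),
      ← htop, Subgroup.map_sup, QuotientGroup.map_mk'_self, bot_sup_eq]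
  show (Nat.card (G ⧸ M)).Prime
  rw [← Subgroup.card_top (G := G ⧸ M), ← this, Nat.card_zpowers, hq]
  exact hp

omit [Finite G] in
/-- In a group `⟨x⟩ A`, membership. -/
theorem mem_zpowers_sup {A : Subgroup G} [A.Normal] {x g : G} :
    g ∈ Subgroup.zpowers x ⊔ A ↔ ∃ i : ℤ, ∃ a ∈ A, g = x ^ i * a := by
  rw [Subgroup.mem_sup_of_normal_right]
  constructor
  · rintro ⟨y, hy, a, ha, rfl⟩
    obtain ⟨i, rfl⟩ := Subgroup.mem_zpowers_iff.1 hy
    exact ⟨i, a, ha, rfl⟩
  · rintro ⟨i, a, ha, rfl⟩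
    exact ⟨_, Subgroup.zpow_mem_zpowers x i, a, ha, rfl⟩

/-- The forward direction. -/
theorem structure_of_selfNorm [Group.IsSolvable G] (hnn : ¬ Group.IsNilpotent G)
    (h : ∀ H : Subgroup G, ¬ IsMulCommutative H → Subgroup.normalizer (H : Set G) = H) :
    ∃ (x : G) (A : Subgroup G) (p : ℕ), p.Prime ∧ A.Normal ∧ IsMulCommutative A ∧
      (∃ k : ℕ, orderOf x = p ^ k) ∧ ¬ p ∣ Nat.card A ∧ (Subgroup.zpowers x).IsComplement' A ∧
      x ^ p ∈ Subgroup.center G ∧ ∀ a : G, a ∈ A → a ≠ 1 → x * a * x⁻¹ ≠ a := by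
  have : Nontrivial G := not_subsingleton_iff_nontrivial.1 fun _ => hnn inferInstance
  obtain ⟨M, hMn, hMp⟩ := exists_normal_prime_index (G := G)
  set p := M.index with hpdef
  have := Fact.mk hMp
  have hMab : IsMulCommutative M := by
    by_contra hna
    have h1 := h M hna
    rw [Subgroup.normalizer_eq_top_iff.2 hMn] at h1
    exact hMp.ne_one (Subgroup.index_eq_one.2 h1.symm)
  have hMc : ∀ a ∈ M, ∀ b ∈ M, a * b = b * a := fun a ha b hb =>
    congrArg Subtype.val (hMab.is_comm.comm ⟨a, ha⟩ ⟨b, hb⟩)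
  -- the part of `M` of order prime to `p`
  let Q : Sylow p M := default
  have hQn : (Q : Subgroup M).Normal := ⟨fun u hu g => by
    rw [hMab.is_comm.comm g u, mul_inv_cancel_right]; exact hu⟩
  obtain ⟨C, hC⟩ := Subgroup.exists_right_complement'_of_coprime (N := (Q : Subgroup M)) Q.card_coprime_index
  set m := (Q : Subgroup M).index with hm
  have hpm : ¬ p ∣ m := Q.not_dvd_index
  have hCcard : Nat.card C = m := hC.symm.index_eq_card.symm
  let A : Subgroup G :=
    { carrier := {a | a ∈ M ∧ a ^ m = 1}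
      one_mem' := ⟨one_mem M, one_pow m⟩
      mul_mem' := fun {a b} ha hb => ⟨mul_mem ha.1 hb.1, by
        rw [Commute.mul_pow (hMc a ha.1 b hb.1), ha.2, hb.2, one_mul]⟩
      inv_mem' := fun {a} ha => ⟨inv_mem ha.1, by rw [inv_pow, ha.2, inv_one]⟩ }
  have hAM : A ≤ M := fun a ha => ha.1
  have hAn : A.Normal := ⟨fun a ha g => ⟨hMn.conj_mem a ha.1 g, by rw [conj_pow, ha.2, mul_one, mul_inv_cancel]⟩⟩
  have hAab : IsMulCommutative A :=
    ⟨⟨fun a b => Subtype.ext (hMc a (hAM a.2) b (hAM b.2))⟩⟩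
  have hpA : ¬ p ∣ Nat.card A := fun hd => by
    obtain ⟨a, ha⟩ := exists_prime_orderOf_dvd_card' (G := A) p hd
    exact hpm (ha ▸ orderOf_dvd_of_pow_eq_one (Subtype.ext a.2.2))
  have hAdvd : Nat.card A ∣ m := by
    obtain ⟨k₁, hk₁⟩ := Q.isPGroup'.exists_card_eq
    refine ((hMp.coprime_iff_not_dvd.2 hpA).symm.pow_right k₁).dvd_of_dvd_mul_left ?_
    rw [← hk₁]
    exact (Q : Subgroup M).card_mul_index ▸ Subgroup.card_dvd_of_le hAM
  have hAge : m ≤ Nat.card A := by
    rw [← hCcard, ← Subgroup.card_map_of_injective M.subtype_injective]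
    refine Subgroup.card_le_of_le ?_
    rintro _ ⟨c, hc, rfl⟩
    refine ⟨c.2, ?_⟩
    have : (⟨c, hc⟩ : C) ^ Nat.card C = 1 := pow_card_eq_one'
    rw [hCcard] at this
    exact congrArg (fun z : C => ((z : M) : G)) this
  have hAcard : Nat.card A = m :=
    le_antisymm (Nat.le_of_dvd (Nat.pos_of_ne_zero (Subgroup.index_ne_zero_of_finite)) hAdvd) hAge
  -- a `p`-element outside `M`
  obtain ⟨y, hy⟩ : ∃ y, y ∉ M := by
    by_contra hall
    push Not at hall
    exact hMp.ne_one (Subgroup.index_eq_one.2 (eq_top_iff.2 fun g _ => hall g))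
  have hn0 : orderOf y ≠ 0 := (orderOf_pos y).ne'
  set m' := orderOf y / p ^ (orderOf y).factorization p with hm'
  set x := y ^ m' with hx
  have hxord : ∃ k : ℕ, orderOf x = p ^ k := by
    refine ⟨(orderOf y).factorization p, ?_⟩
    rw [hx, hm', orderOf_pow_of_dvd (Nat.div_pos (Nat.le_of_dvd (orderOf_pos y) (Nat.ordProj_dvd _ _)) (pow_pos hMp.pos _)).ne'
      (Nat.div_dvd_of_dvd (Nat.ordProj_dvd _ _)), Nat.div_div_self (Nat.ordProj_dvd _ _) hn0]
  have hxM : x ∉ M := fun hxm => by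
    have hcop : m'.Coprime p := (Nat.coprime_ordCompl hMp hn0).symm
    have h1 : (QuotientGroup.mk' M y) ^ m' = 1 := by
      rw [← map_pow]; exact (QuotientGroup.eq_one_iff _).2 hxm
    have h2 : (QuotientGroup.mk' M y) ^ p = 1 := by
      rw [show p = Nat.card (G ⧸ M) from rfl]; exact pow_card_eq_one'
    have h3 := pow_gcd_eq_one.2 ⟨h1, h2⟩
    rw [hcop, pow_one] at h3
    exact hy ((QuotientGroup.eq_one_iff y).1 h3)
  obtain ⟨kx, hkx⟩ := hxord
  obtain ⟨P, hP⟩ := IsPGroup.exists_le_sylow (IsPGroup.of_card (p := p) (n := kx)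
    (show Nat.card (Subgroup.zpowers x) = p ^ kx by rw [Nat.card_zpowers, hkx]))
  have hGcard : Nat.card G = Nat.card (Q : Subgroup M) * p * m := by
    rw [← M.card_mul_index, ← (Q : Subgroup M).card_mul_index]; ring
  obtain ⟨kP, hkP⟩ := P.isPGroup'.exists_card_eq
  obtain ⟨kQ, hkQ⟩ := Q.isPGroup'.exists_card_eq
  have hPA : (P : Subgroup G).IsComplement' A := by
    have hPc : Nat.card P = Nat.card (Q : Subgroup M) * p := by
      rw [P.card_eq_multiplicity, hGcard, hkQ, ← _root_.pow_succ,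
        Nat.factorization_mul (pow_ne_zero _ hMp.ne_zero) (Subgroup.index_ne_zero_of_finite),
        Finsupp.add_apply, hMp.factorization_pow, Finsupp.single_eq_same,
        Nat.factorization_eq_zero_of_not_dvd hpm, add_zero]
    refine Subgroup.isComplement'_of_coprime (by rw [hPc, hAcard, hGcard]) ?_
    rw [hkP]
    exact (hMp.coprime_iff_not_dvd.2 hpA).pow_left _
  have hdecomp : ∀ g : G, ∃ u ∈ (P : Subgroup G), ∃ a ∈ A, g = u * a := fun g =>
    Subgroup.mem_sup_of_normal_right.1 (hPA.sup_eq_top ▸ Subgroup.mem_top g) |> fun ⟨u, hu, a, ha, e⟩ =>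
      ⟨u, hu, a, ha, e.symm⟩
  have hdisj : ∀ u ∈ (P : Subgroup G), u ∈ A → u = 1 := fun u hu ha =>
    Subgroup.disjoint_def.1 hPA.disjoint hu ha
  -- `P ∩ M` and `x` generate `P`
  set H := Subgroup.zpowers x ⊔ A with hH
  have hHna : ¬ IsMulCommutative H := by
    intro hab
    refine hnn ?_
    have hxA : ∀ a ∈ A, x * a = a * x := fun a ha =>
      congrArg Subtype.val (hab.is_comm.comm ⟨x, Subgroup.mem_sup_left (Subgroup.mem_zpowers x)⟩ ⟨a, Subgroup.mem_sup_right ha⟩)
    have hMxtop : M ⊔ Subgroup.zpowers x = ⊤ := by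
      rw [← Subgroup.index_eq_one]
      rcases hMp.eq_one_or_self_of_dvd _ (Subgroup.index_dvd_of_le (le_sup_left : M ≤ M ⊔ Subgroup.zpowers x)) with h1 | h1
      · exact h1
      · exfalso
        refine hxM ?_
        have : M = M ⊔ Subgroup.zpowers x := Subgroup.eq_of_le_of_card_ge le_sup_left (le_of_eq (Nat.eq_of_mul_eq_mul_right hMp.pos (by
          have e1 := (M ⊔ Subgroup.zpowers x).card_mul_index
          rw [h1] at e1
          rw [e1, ← M.card_mul_index])))
        exact this ▸ Subgroup.mem_sup_right (Subgroup.mem_zpowers x)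
    have hcen : A ≤ Subgroup.center G := by
      intro a ha
      have : M ⊔ Subgroup.zpowers x ≤ Subgroup.centralizer {a} := sup_le
        (fun g hg => Subgroup.mem_centralizer_singleton_iff.2 (hMc g hg a ha.1))
        (Subgroup.zpowers_le.2 (Subgroup.mem_centralizer_singleton_iff.2 (hxA a ha)))
      rw [Subgroup.mem_center_iff]
      intro g
      exact Subgroup.mem_centralizer_singleton_iff.1 (this (hMxtop ▸ Subgroup.mem_top g))
    have hQnil : Group.IsNilpotent (G ⧸ Subgroup.center G) := by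
      have : Group.IsNilpotent (P : Subgroup G) := P.isPGroup'.isNilpotent
      refine Group.nilpotent_of_surjective ((QuotientGroup.mk' _).comp (P : Subgroup G).subtype) fun q => ?_
      obtain ⟨g, rfl⟩ := QuotientGroup.mk'_surjective _ q
      obtain ⟨u, hu, a, ha, rfl⟩ := hdecomp g
      refine ⟨⟨u, hu⟩, ?_⟩
      show QuotientGroup.mk' _ u = _
      rw [map_mul, show QuotientGroup.mk' _ a = 1 from (QuotientGroup.eq_one_iff a).2 (hcen ha), mul_one]
    exact Group.of_quotient_center_nilpotent hQnil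
  have hPx : (P : Subgroup G) = Subgroup.zpowers x := by
    by_contra hne
    set X := (Subgroup.zpowers x).subgroupOf (P : Subgroup G) with hX
    have hXt : X ≠ ⊤ := fun e => hne (le_antisymm (Subgroup.subgroupOf_eq_top.1 e) hP)
    have : Group.IsNilpotent (P : Subgroup G) := P.isPGroup'.isNilpotent
    obtain ⟨u, hu, huX⟩ := SetLike.exists_of_lt (Group.normalizerCondition_of_isNilpotent (G := (P : Subgroup G)) X (lt_top_iff_ne_top.2 hXt))
    have hN : (u : G) ∈ Subgroup.normalizer (H : Set G) := by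
      rw [Subgroup.mem_normalizer_iff]
      intro g
      have hux : ∀ w : (P : Subgroup G), w ∈ Subgroup.normalizer (X : Set (P : Subgroup G)) → ∀ i : ℤ,
          (w : G) * x ^ i * (w : G)⁻¹ ∈ Subgroup.zpowers x := fun w hw i =>
        (Subgroup.mem_normalizer_iff.1 hw ⟨x ^ i, hP (Subgroup.zpow_mem_zpowers x i)⟩).1
          (Subgroup.zpow_mem_zpowers x i)
      have hmap : ∀ w : (P : Subgroup G), w ∈ Subgroup.normalizer (X : Set (P : Subgroup G)) → ∀ g ∈ H,
          (w : G) * g * (w : G)⁻¹ ∈ H := by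
        intro w hw g hg
        obtain ⟨i, a, ha, rfl⟩ := mem_zpowers_sup.1 hg
        rw [show (w : G) * (x ^ i * a) * (w : G)⁻¹ = (w * x ^ i * (w : G)⁻¹) * (w * a * (w : G)⁻¹) by group]
        exact mul_mem (Subgroup.mem_sup_left (hux w hw i)) (Subgroup.mem_sup_right (hAn.conj_mem a ha w))
      refine ⟨hmap u hu g, fun hg => ?_⟩
      have := hmap u⁻¹ (inv_mem hu) _ hg
      rwa [Subgroup.coe_inv, inv_inv, show (u : G)⁻¹ * ((u : G) * g * (u : G)⁻¹) * (u : G) = g by group] at this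
    rw [h H hHna] at hN
    obtain ⟨i, a, ha, hua⟩ := mem_zpowers_sup.1 hN
    have ha1 : a = 1 := hdisj a (by
      rw [show a = (x ^ i)⁻¹ * u by rw [hua, inv_mul_cancel_left]]
      exact mul_mem (inv_mem (hP (Subgroup.zpow_mem_zpowers x i))) u.2) ha
    refine huX ?_
    show (u : G) ∈ Subgroup.zpowers x
    rw [hua, ha1, mul_one]
    exact Subgroup.zpow_mem_zpowers x i
  have hcomp : (Subgroup.zpowers x).IsComplement' A := hPx ▸ hPA
  refine ⟨x, A, p, hMp, hAn, hAab, ⟨kx, hkx⟩, hpA, hcomp, ?_, ?_⟩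
  · have hxp : x ^ p ∈ M := by
      rw [← QuotientGroup.eq_one_iff, QuotientGroup.mk_pow, show p = Nat.card (G ⧸ M) from rfl]
      exact pow_card_eq_one'
    rw [Subgroup.mem_center_iff]
    intro g
    obtain ⟨i, a, ha, rfl⟩ := mem_zpowers_sup.1 (hcomp.sup_eq_top ▸ Subgroup.mem_top g : g ∈ Subgroup.zpowers x ⊔ A)
    have hca : Commute a (x ^ p) := hMc a (hAM ha) _ hxp
    exact (((Commute.refl x).pow_right p).zpow_left i).mul_left hca
  · intro a₀ ha₀ hne₀ hfix
    let φ : A →* A :=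
      { toFun := fun a => ⟨x * a * x⁻¹, hAn.conj_mem a a.2 x⟩ * a⁻¹
        map_one' := Subtype.ext (by simp)
        map_mul' := fun a b => Subtype.ext (by
          simp only [Subgroup.coe_mul, Subgroup.coe_inv]
          have e := hMc (x * b * x⁻¹) (hMn.conj_mem b (hAM b.2) x) ((a : G)⁻¹) (inv_mem (hAM a.2))
          calc x * (a * b) * x⁻¹ * ((a : G) * b)⁻¹ = x * a * x⁻¹ * (x * b * x⁻¹ * (b : G)⁻¹ * (a : G)⁻¹) := by group
            _ = x * a * x⁻¹ * (x * b * x⁻¹ * ((a : G)⁻¹ * (b : G)⁻¹)) := by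
              rw [mul_assoc (x * b * x⁻¹), hMc _ (inv_mem (hAM b.2)) _ (inv_mem (hAM a.2))]
            _ = x * a * x⁻¹ * ((x * b * x⁻¹ * (a : G)⁻¹) * (b : G)⁻¹) := by group
            _ = x * a * x⁻¹ * (((a : G)⁻¹ * (x * b * x⁻¹)) * (b : G)⁻¹) := by rw [e]
            _ = _ := by group) }
    set B := φ.range.map A.subtype with hB
    have hBA : B ≤ A := Subgroup.map_subtype_le _
    -- fixed points meet the commutators trivially
    have hmeet : ∀ b ∈ B, x * b * x⁻¹ = b → b = 1 := by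
      rintro _ ⟨_, ⟨a, rfl⟩, rfl⟩ hb
      set c : G := ((φ a : A) : G) with hc
      have hb' : x * c = c * x := by
        calc x * c = x * c * x⁻¹ * x := by group
          _ = c * x := by rw [show x * c * x⁻¹ = c from hb]
      have hcA : c ∈ A := (φ a).2
      have hxa : x * (a : G) * x⁻¹ = c * a := by
        show _ = x * a * x⁻¹ * (a : G)⁻¹ * a
        group
      have hpow : ∀ n : ℕ, x ^ n * (a : G) * (x ^ n)⁻¹ = c ^ n * a := by
        intro n
        induction n with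
        | zero => simp
        | succ n ih =>
          calc x ^ (n + 1) * (a : G) * (x ^ (n + 1))⁻¹ = x * (x ^ n * a * (x ^ n)⁻¹) * x⁻¹ := by
                rw [_root_.pow_succ']; group
            _ = x * (c ^ n * a) * x⁻¹ := by rw [ih]
            _ = x * c ^ n * x⁻¹ * (x * a * x⁻¹) := by group
            _ = c ^ n * (c * a) := by rw [(Commute.pow_right hb' n).eq, hxa]; group
            _ = c ^ (n + 1) * a := by rw [_root_.pow_succ, mul_assoc]
      have h1 := hpow (orderOf x)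
      rw [pow_orderOf_eq_one, one_mul, inv_one, mul_one] at h1
      have h2 : c ^ orderOf x = 1 := by
        calc c ^ orderOf x = c ^ orderOf x * a * (a : G)⁻¹ := by group
          _ = 1 := by rw [← h1, mul_inv_cancel]
      have h3 : (⟨c, hcA⟩ : A) = 1 := orderOf_eq_one_iff.1 (Nat.eq_one_of_dvd_coprimes
        ((hMp.coprime_iff_not_dvd.2 hpA).pow_left kx) (hkx ▸ orderOf_dvd_of_pow_eq_one (Subtype.ext h2))
        (_root_.orderOf_dvd_natCard _))
      exact congrArg Subtype.val h3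
    have hBx : ∀ a ∈ A, x * a * x⁻¹ * a⁻¹ ∈ B := fun a ha => ⟨φ ⟨a, ha⟩, ⟨_, rfl⟩, rfl⟩
    have hxB : ∀ b ∈ B, x * b * x⁻¹ ∈ B := fun b hb => by
      rw [show x * b * x⁻¹ = x * b * x⁻¹ * b⁻¹ * b by group]
      exact mul_mem (hBx b (hBA hb)) hb
    have hxN : x ∈ Subgroup.normalizer (B : Set G) :=
      by
        rw [Subgroup.mem_normalizer_iff]
        have heq : B.map (MulAut.conj x).toMonoidHom = B := Subgroup.eq_of_le_of_card_ge
          (by rintro _ ⟨b, hb, rfl⟩; exact hxB b hb)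
          (le_of_eq (Subgroup.card_map_of_injective (MulAut.conj x).injective).symm)
        intro b
        refine ⟨hxB b, fun hb => ?_⟩
        rw [← heq, Subgroup.mem_map_equiv, MulAut.conj_symm_apply] at hb
        rwa [show x⁻¹ * (x * b * x⁻¹) * x = b by group] at hb
    set K := Subgroup.zpowers x ⊔ B with hK
    have hKna : ¬ IsMulCommutative K := by
      intro hab
      refine hHna ?_
      have hxa : ∀ a ∈ A, x * a = a * x := by
        intro a ha
        have hb := hBx a ha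
        have h1 := hmeet _ hb (by
          rw [show x * (x * a * x⁻¹ * a⁻¹) * x⁻¹ = (x * a * x⁻¹ * a⁻¹) * x * x⁻¹ from by
            rw [show x * (x * a * x⁻¹ * a⁻¹) = (x * a * x⁻¹ * a⁻¹) * x from congrArg Subtype.val
              (hab.is_comm.comm ⟨x, Subgroup.mem_sup_left (Subgroup.mem_zpowers x)⟩ ⟨_, Subgroup.mem_sup_right hb⟩)]]
          group)
        calc x * a = x * a * x⁻¹ * a⁻¹ * (a * x) := by group
          _ = a * x := by rw [h1, one_mul]
      refine ⟨⟨fun u v => Subtype.ext ?_⟩⟩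
      obtain ⟨i, a, ha, hu⟩ := mem_zpowers_sup.1 u.2
      obtain ⟨j, b, hb, hv⟩ := mem_zpowers_sup.1 v.2
      show (u : G) * v = v * u
      rw [hu, hv]
      have c1 : Commute a (x ^ j) := ((show Commute x a from hxa a ha).symm).zpow_right j
      have c2 : Commute b (x ^ i) := ((show Commute x b from hxa b hb).symm).zpow_right i
      exact Commute.mul_left ((((Commute.refl x).zpow_zpow i j)).mul_right c2.symm)
        (c1.mul_right (hMc a (hAM ha) b (hAM hb)))
    have ha0N : a₀ ∈ Subgroup.normalizer (K : Set G) := by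
      have hle : Subgroup.zpowers x ⊔ B ≤ Subgroup.centralizer {a₀} := sup_le
        (Subgroup.zpowers_le.2 (Subgroup.mem_centralizer_singleton_iff.2 (by
          calc x * a₀ = x * a₀ * x⁻¹ * x := by group
            _ = a₀ * x := by rw [hfix])))
        (fun b hb => Subgroup.mem_centralizer_singleton_iff.2 (hMc b (hAM (hBA hb)) a₀ (hAM ha₀)))
      refine Subgroup.centralizer_le_normalizer _ (Subgroup.mem_centralizer_iff.2 fun g hg => ?_)
      exact Subgroup.mem_centralizer_singleton_iff.1 (hle hg)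
    rw [h K hKna] at ha0N
    obtain ⟨y', hy', b, hb, hab⟩ : ∃ y' ∈ Subgroup.zpowers x, ∃ b ∈ B, y' * b = a₀ := by
      have : a₀ ∈ ((Subgroup.zpowers x : Set G) * (B : Set G)) := by
        rw [← Subgroup.coe_mul_of_left_le_normalizer_right _ _ (Subgroup.zpowers_le.2 hxN)]; exact ha0N
      exact this
    have hy1 : y' = 1 := Subgroup.disjoint_def.1 hcomp.disjoint hy' (by
      rw [show y' = a₀ * b⁻¹ by rw [← hab, mul_inv_cancel_right]]
      exact mul_mem ha₀ (inv_mem (hBA hb)))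
    rw [hy1, one_mul] at hab
    exact hne₀ (hab ▸ hmeet b hb (hab ▸ hfix))

/-- The converse direction. -/
theorem selfNorm_of_structure (x : G) (A : Subgroup G) (p : ℕ) (hp : p.Prime) (hAn : A.Normal)
    (hAab : IsMulCommutative A) (hord : ∃ k : ℕ, orderOf x = p ^ k)
    (hcomp : (Subgroup.zpowers x).IsComplement' A) (hxp : x ^ p ∈ Subgroup.center G)
    (hfpf : ∀ a : G, a ∈ A → a ≠ 1 → x * a * x⁻¹ ≠ a)
    (H : Subgroup G) (hH : ¬ IsMulCommutative H) : Subgroup.normalizer (H : Set G) = H := by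
  obtain ⟨k, hk⟩ := hord
  have hAc : ∀ a ∈ A, ∀ b ∈ A, a * b = b * a := fun a ha b hb =>
    congrArg Subtype.val (hAab.is_comm.comm ⟨a, ha⟩ ⟨b, hb⟩)
  have hdec : ∀ g : G, ∃ i : ℤ, ∃ a ∈ A, g = x ^ i * a := fun g =>
    mem_zpowers_sup.1 (hcomp.sup_eq_top ▸ Subgroup.mem_top g : g ∈ Subgroup.zpowers x ⊔ A)
  -- an element with exponent prime to `p`
  obtain ⟨h₀, hh₀, i, a, ha, he, hi⟩ : ∃ h ∈ H, ∃ i : ℤ, ∃ a ∈ A, h = x ^ i * a ∧ ¬ (p : ℤ) ∣ i := by
    by_contra hall
    push Not at hall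
    refine hH ⟨⟨fun u v => Subtype.ext ?_⟩⟩
    obtain ⟨i, a, ha, hu⟩ := hdec u
    obtain ⟨j, b, hb, hv⟩ := hdec v
    obtain ⟨i', rfl⟩ := hall _ u.2 i a ha hu
    obtain ⟨j', rfl⟩ := hall _ v.2 j b hb hv
    show (u : G) * v = v * u
    rw [hu, hv, zpow_mul, zpow_mul, zpow_natCast]
    have hz : ∀ (n : ℤ) (g : G), Commute ((x ^ p) ^ n) g := fun n g =>
      (Subgroup.mem_center_iff.1 (zpow_mem hxp n) g).symm
    exact Commute.mul_left ((hz i' _).mul_right (hz i' _))
      (((hz j' a).symm).mul_right (hAc a ha b hb))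
  -- conjugate it to a power of `x`
  have hgen : ∀ c ∈ A, x ^ i * c * (x ^ i)⁻¹ = c → c = 1 := by
    intro c hc hfix
    by_contra hne
    refine hfpf c hc hne ?_
    have hcop : IsCoprime (orderOf x : ℤ) i := by
      rw [hk, Nat.cast_pow]
      exact ((Nat.prime_iff_prime_int.1 hp).coprime_iff_not_dvd.2 hi).pow_left
    obtain ⟨s, t, hst⟩ := hcop
    have hx : x = (x ^ i) ^ t := by
      rw [← zpow_mul, mul_comm]
      conv_lhs => rw [← zpow_one x, ← hst, zpow_add, mul_comm s, zpow_mul, zpow_natCast,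
        pow_orderOf_eq_one, one_zpow, one_mul]
    have hcm : Commute (x ^ i) c := by
      show x ^ i * c = c * x ^ i
      calc x ^ i * c = x ^ i * c * (x ^ i)⁻¹ * x ^ i := by group
        _ = c * x ^ i := by rw [hfix]
    have : Commute x c := hx ▸ hcm.zpow_left t
    rw [this.eq, mul_inv_cancel_right]
  have hbij : ∀ b ∈ A, ∃ c ∈ A, (x ^ i)⁻¹ * c * x ^ i * c⁻¹ = b := by
    intro b hb
    let f : A → A := fun c => ⟨(x ^ i)⁻¹ * c * x ^ i * (c : G)⁻¹,
      mul_mem (by simpa using hAn.conj_mem c c.2 (x ^ i)⁻¹) (inv_mem c.2)⟩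
    have hf : Function.Injective f := by
      intro c d hcd
      have hcd' : (x ^ i)⁻¹ * c * x ^ i * (c : G)⁻¹ = (x ^ i)⁻¹ * d * x ^ i * (d : G)⁻¹ :=
        congrArg Subtype.val hcd
      have he' : (c : G)⁻¹ * d = 1 := hgen _ (mul_mem (inv_mem c.2) d.2) (by
        have h1 : (x ^ i)⁻¹ * ((c : G)⁻¹ * d) * x ^ i = (c : G)⁻¹ * d := by
          have e1 : (x ^ i)⁻¹ * d * x ^ i = (x ^ i)⁻¹ * c * x ^ i * (c : G)⁻¹ * d := by
            rw [hcd']; group
          calc (x ^ i)⁻¹ * ((c : G)⁻¹ * d) * x ^ i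
              = ((x ^ i)⁻¹ * c * x ^ i)⁻¹ * ((x ^ i)⁻¹ * d * x ^ i) := by group
            _ = _ := by rw [e1]; group
        calc x ^ i * ((c : G)⁻¹ * d) * (x ^ i)⁻¹
            = x ^ i * ((x ^ i)⁻¹ * ((c : G)⁻¹ * d) * x ^ i) * (x ^ i)⁻¹ := by rw [h1]
          _ = _ := by group)
      exact Subtype.ext (inv_mul_eq_one.1 he')
    obtain ⟨c, hc⟩ := (Finite.surjective_of_injective hf) ⟨b, hb⟩
    exact ⟨c, c.2, congrArg Subtype.val hc⟩
  obtain ⟨c, hc, hcb⟩ := hbij a ha
  have he' : h₀ = c * x ^ i * c⁻¹ := by rw [he, ← hcb]; group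
  refine le_antisymm ?_ Subgroup.le_normalizer
  intro g hg
  obtain ⟨j, d, hd, hgd⟩ := hdec g
  -- move into the conjugate containing `x`
  have hxH : c * x * c⁻¹ ∈ H := by
    have hcop : IsCoprime (orderOf x : ℤ) i := by
      rw [hk, Nat.cast_pow]
      exact ((Nat.prime_iff_prime_int.1 hp).coprime_iff_not_dvd.2 hi).pow_left
    obtain ⟨s, t, hst⟩ := hcop
    have hx : x = (x ^ i) ^ t := by
      rw [← zpow_mul, mul_comm]
      conv_lhs => rw [← zpow_one x, ← hst, zpow_add, mul_comm s, zpow_mul, zpow_natCast,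
        pow_orderOf_eq_one, one_zpow, one_mul]
    rw [hx, ← conj_zpow, ← he']
    exact zpow_mem hh₀ t
  set y := c * x * c⁻¹ with hy
  obtain ⟨d', hd', hgd'⟩ : ∃ d' ∈ A, g = y ^ j * d' := by
    refine ⟨(y ^ j)⁻¹ * g, ?_, by group⟩
    rw [hgd, hy, conj_zpow, show (c * x ^ j * c⁻¹)⁻¹ * (x ^ j * d) = c * ((x ^ j)⁻¹ * c⁻¹ * x ^ j) * d by group]
    exact mul_mem (mul_mem hc (by simpa using hAn.conj_mem _ (inv_mem hc) (x ^ j)⁻¹)) hd
  have hd'N : d' ∈ Subgroup.normalizer (H : Set G) := by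
    rw [show d' = (y ^ j)⁻¹ * g by rw [hgd']; group]
    exact mul_mem (inv_mem (zpow_mem (Subgroup.le_normalizer hxH) j)) hg
  -- the map `b ↦ [y, b]` is injective on `A`, so bijective on `H ∩ A`
  have hfy : ∀ b ∈ A, y * b * y⁻¹ = b → b = 1 := by
    intro b hb hfix
    by_contra hne
    refine hfpf b hb hne ?_
    have h1 : x * b * x⁻¹ = c⁻¹ * (y * (c * b * c⁻¹) * y⁻¹) * c := by rw [hy]; group
    rw [show c * b * c⁻¹ = b by rw [hAc c hc b hb, mul_inv_cancel_right], hfix] at h1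
    rw [h1, mul_assoc, hAc b hb c hc, inv_mul_cancel_left]
  let B := H ⊓ A
  let f : B → B := fun b => ⟨y * b * y⁻¹ * (b : G)⁻¹, Subgroup.mem_inf.2
    ⟨mul_mem (mul_mem (mul_mem hxH (Subgroup.mem_inf.1 b.2).1) (inv_mem hxH))
      (inv_mem (Subgroup.mem_inf.1 b.2).1),
    mul_mem (hAn.conj_mem b (Subgroup.mem_inf.1 b.2).2 y) (inv_mem (Subgroup.mem_inf.1 b.2).2)⟩⟩
  have hinj : ∀ b₁ b₂ : G, b₁ ∈ A → b₂ ∈ A → y * b₁ * y⁻¹ * b₁⁻¹ = y * b₂ * y⁻¹ * b₂⁻¹ → b₁ = b₂ := by
    intro b₁ b₂ h₁ h₂ e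
    refine inv_mul_eq_one.1 (hfy _ (mul_mem (inv_mem h₁) h₂) ?_)
    have e1 : y * b₂ * y⁻¹ = y * b₁ * y⁻¹ * b₁⁻¹ * b₂ := by rw [e]; group
    calc y * (b₁⁻¹ * b₂) * y⁻¹ = (y * b₁ * y⁻¹)⁻¹ * (y * b₂ * y⁻¹) := by group
      _ = _ := by rw [e1]; group
  have hf : Function.Injective f := fun b₁ b₂ e =>
    Subtype.ext (hinj _ _ b₁.2.2 b₂.2.2 (congrArg Subtype.val e))
  have hmem : y * d' * y⁻¹ * d'⁻¹ ∈ B := by
    refine Subgroup.mem_inf.2 ⟨?_, mul_mem (hAn.conj_mem d' hd' y) (inv_mem hd')⟩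
    rw [mul_assoc y, mul_assoc y]
    exact mul_mem hxH ((Subgroup.mem_normalizer_iff.1 hd'N _).1 (inv_mem hxH))
  obtain ⟨b, hb⟩ := (Finite.surjective_of_injective hf) ⟨_, hmem⟩
  have : (b : G) = d' := hinj _ _ b.2.2 hd' (congrArg Subtype.val hb)
  rw [hgd']
  exact mul_mem (zpow_mem hxH j) (this ▸ b.2.1)

end Cfsg.Agent.SelfNormNonAb
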